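import Mathlib
import Cfsg.Agent.Char.Glauberman.Statement
import Cfsg.Agent.Char.Glauberman.Equivariant
import Cfsg.Agent.Char.Gallagher
import Cfsg.Agent.ProjExt.CliffordCorr

/-!
A p-group of operators on a group with normal Sylow p-subgroup: the set-up and the general lemmas.
-/

set_option autoImplicit false

namespace Cfsg.Agent.Fg24.NormalSylowCorr

open scoped ComplexConjugate
open Cfsg.Agent
open Cfsg.Agent.Char.Glauberman (InvFun restrictOp quotOp Fixed)

universe u v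

/-- An irreducible character trivial on the kernel of a surjection comes from the image. -/
theorem exists_descend {H F : Type u} [Group H] [Group F] [Finite H] (f : H →* F)
    (hf : Function.Surjective f) {χ : H → ℂ} (hχ : Cfsg.IsIrrCharacter H χ)
    (hker : ∀ h ∈ f.ker, χ h = χ 1) :
    ∃ χ' : F → ℂ, Cfsg.IsIrrCharacter F χ' ∧ ∀ h, χ' (f h) = χ h := by
  obtain ⟨n, ρ, hρ, rfl⟩ := hχ
  have hle : f.ker ≤ MonoidHom.ker ρ := fun h hh => by
    rw [MonoidHom.mem_ker]
    exact (Char.character_eq_finrank_iff (ρ := ρ) h).1 (by rw [hker h hh, Representation.char_one])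
  have heq : ∀ x y, f x = f y → ρ x = ρ y := fun x y hxy => by
    have h1 : ρ (y⁻¹ * x) = 1 := MonoidHom.mem_ker.1 (hle (by
      rw [MonoidHom.mem_ker, map_mul, map_inv, hxy, inv_mul_cancel]))
    calc ρ x = ρ (y * (y⁻¹ * x)) := by rw [mul_inv_cancel_left]
      _ = ρ y := by rw [map_mul, h1, mul_one]
  let σ : Representation ℂ F (Fin n → ℂ) :=
    { toFun := fun x => ρ (Function.surjInv hf x)
      map_one' := by
        rw [heq (Function.surjInv hf 1) 1 (by rw [Function.surjInv_eq hf, map_one]), map_one]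
      map_mul' := fun x y => by
        rw [← map_mul]
        exact heq _ _ (by
          rw [Function.surjInv_eq hf, map_mul, Function.surjInv_eq hf, Function.surjInv_eq hf]) }
  have hσ : ∀ h, σ (f h) = ρ h := fun h => heq _ _ (Function.surjInv_eq hf _)
  refine ⟨σ.character, ⟨n, σ, ?_, rfl⟩, fun h => ?_⟩
  · rw [Char.isIrreducible_iff] at hρ ⊢
    refine ⟨hρ.1, fun U hU => hρ.2 U fun h v hv => ?_⟩
    rw [← hσ]
    exact hU _ v hv
  · simp only [Representation.character, hσ]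

/-- A subgroup and an irreducible character of the group over `θ`, and a character not over it. -/
theorem classInner_eq_zero_of_not_over {H : Type u} [Group H] [Fintype H] (N : Subgroup H)
    [Fintype N] {F ξ : H → ℂ} (hF : Cfsg.IsCharacter H F) (hξ : Cfsg.IsIrrCharacter H ξ)
    {θ : N → ℂ} (hθ : Cfsg.IsCharacter N θ)
    (hF0 : Cfsg.classInner (fun x : N => F x) θ = 0)
    (hξ0 : Cfsg.classInner (fun x : N => ξ x) θ ≠ 0) : Cfsg.classInner F ξ = 0 := by
  by_contra hne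
  obtain ⟨e, he⟩ := Char.classInner_isCharacter_eq_natCast
    (Char.isCharacter_res N (Char.IsIrr.isCharacter hξ)) hθ
  obtain ⟨r, hr⟩ := Char.classInner_isCharacter_eq_natCast
    (Char.isCharacter_res N (Char.IsChar.sub_constituent hF hξ hne)) hθ
  have h1 : Cfsg.classInner (fun x : N => (F - ξ) x) θ =
      Cfsg.classInner (fun x : N => F x) θ - Cfsg.classInner (fun x : N => ξ x) θ := by
    rw [← Char.classInner_sub_left]; rfl
  rw [hr, hF0, he] at h1
  have h2 : ((r + e : ℕ) : ℂ) = ((0 : ℕ) : ℂ) := by push_cast; linear_combination h1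
  have h3 : r + e = 0 := Nat.cast_injective h2
  exact hξ0 (by rw [he, show e = 0 by omega, Nat.cast_zero])

/-- The set-up: `D` maps onto the elements fixed by `A` modulo the normal Sylow p-subgroup `Q`. -/
structure Setup (p : ℕ) (K D : Type u) [Group K] [Group D] (A : Type v) [Group A] where
  a : A →* MulAut K
  b : A →* MulAut D
  ι : D →* K
  Q : Subgroup K
  hA : IsPGroup p A
  inj : Function.Injective ι
  compat : ∀ t c, ι (b t c) = a t (ι c)
  mem_range : ∀ k, k ∈ ι.range ↔ ∀ t, a t k * k⁻¹ ∈ Q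
  normal : Q.Normal
  pgroup : IsPGroup p Q
  index : ¬ p ∣ Q.index
  stable : ∀ (t : A), ∀ q ∈ Q, a t q ∈ Q

variable {p : ℕ} {K D : Type u} [Group K] [Group D] {A : Type v} [Group A] (S : Setup p K D A)

namespace Setup

theorem le_range : S.Q ≤ S.ι.range := fun q hq =>
  (S.mem_range q).2 fun t => mul_mem (S.stable t q hq) (inv_mem hq)

/-- The preimage of `Q`. -/
abbrev Qd : Subgroup D := S.Q.comap S.ι

theorem qd_normal : S.Qd.Normal := S.normal.comap S.ι

/-- The restriction to `Q`. -/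
noncomputable def eQ : S.Qd ≃* S.Q :=
  MulEquiv.ofBijective
    ({ toFun := fun q => ⟨S.ι q, q.2⟩
       map_one' := Subtype.ext (by simp)
       map_mul' := fun x y => Subtype.ext (by simp) } : S.Qd →* S.Q)
    ⟨fun x y h => Subtype.ext (S.inj (congrArg Subtype.val h)), fun q => by
      obtain ⟨c, hc⟩ := S.le_range q.2
      exact ⟨⟨c, by show S.ι c ∈ S.Q; rw [hc]; exact q.2⟩, Subtype.ext hc⟩⟩

theorem eQ_val (q : S.Qd) : ((S.eQ q : S.Q) : K) = S.ι q := rfl

/-- A function on `Q` as a function on its preimage. -/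
noncomputable def θd (θ : S.Q → ℂ) : S.Qd → ℂ := fun q => θ (S.eQ q)

theorem isIrr_θd {θ : S.Q → ℂ} (hθ : Cfsg.IsIrrCharacter S.Q θ) :
    Cfsg.IsIrrCharacter S.Qd (S.θd θ) :=
  (Char.isIrrCharacter_comp_equiv S.eQ).2 hθ

theorem stable_qd (t : A) : ∀ q ∈ S.Qd, S.b t q ∈ S.Qd := fun q hq => by
  show S.ι (S.b t q) ∈ S.Q
  rw [S.compat]
  exact S.stable t _ hq

variable [Fintype K] [Fintype D] [Fintype S.Q] [Fintype S.Qd]

/-- `χ` lies over `θ`. -/
def OverK (θ : S.Q → ℂ) (χ : K → ℂ) : Prop := Cfsg.classInner (fun q : S.Q => χ q) θ ≠ 0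

/-- `ξ` lies over `θ`. -/
def OverD (θ : S.Q → ℂ) (ξ : D → ℂ) : Prop :=
  Cfsg.classInner (fun q : S.Qd => ξ q) (S.θd θ) ≠ 0

theorem overD_comp_iff (θ : S.Q → ℂ) (χ : K → ℂ) :
    S.OverD θ (fun c => χ (S.ι c)) ↔ S.OverK θ χ := by
  have : Cfsg.classInner (fun q : S.Qd => χ (S.ι q)) (S.θd θ) =
      Cfsg.classInner (fun q : S.Q => χ q) θ := by
    rw [Cfsg.classInner, Cfsg.classInner, Nat.card_congr S.eQ.toEquiv]
    congr 1
    exact Fintype.sum_equiv S.eQ.toEquiv _ _ fun q => rfl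
  exact Iff.of_eq (congrArg (· ≠ 0) this)

omit [Fintype K] [Fintype S.Q] [Fintype S.Qd] in
/-- The multiplicity. -/
noncomputable def m (χ : Cfsg.IrrCharacter K) (ξ : Cfsg.IrrCharacter D) : ℕ :=
  Classical.choose (Char.classInner_isCharacter_eq_natCast
    (Char.isCharacter_comp S.ι (Char.IsIrr.isCharacter χ.2)) (Char.IsIrr.isCharacter ξ.2))

omit [Fintype K] [Fintype S.Q] [Fintype S.Qd] in
theorem m_spec (χ : Cfsg.IrrCharacter K) (ξ : Cfsg.IrrCharacter D) :
    Cfsg.classInner (fun c => (χ : K → ℂ) (S.ι c)) (ξ : D → ℂ) = (S.m χ ξ : ℂ) :=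
  Classical.choose_spec (Char.classInner_isCharacter_eq_natCast
    (Char.isCharacter_comp S.ι (Char.IsIrr.isCharacter χ.2)) (Char.IsIrr.isCharacter ξ.2))

theorem m_eq_zero_of_not_over {θ : S.Q → ℂ} (hθ : Cfsg.IsIrrCharacter S.Q θ)
    (χ : Cfsg.IrrCharacter K) (ξ : Cfsg.IrrCharacter D) (hχ : ¬ S.OverK θ (χ : K → ℂ))
    (hξ : S.OverD θ (ξ : D → ℂ)) : S.m χ ξ = 0 := by
  have h := classInner_eq_zero_of_not_over S.Qd
    (Char.isCharacter_comp S.ι (Char.IsIrr.isCharacter χ.2)) ξ.2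
    (Char.IsIrr.isCharacter (S.isIrr_θd hθ))
    (not_not.1 fun h => hχ ((S.overD_comp_iff θ _).1 h)) hξ
  rw [S.m_spec] at h
  exact_mod_cast h

end Setup

/-- A coprime p-group of operators fixes a point of an invariant union of cosets. -/
theorem exists_mem_range [Finite K] [hp : Fact p.Prime] (T : Subgroup K) (hQT : S.Q ≤ T)
    (g₀ : K) (hst : ∀ t, ∀ g ∈ T, S.a t (g₀ * g) * (g₀ * g)⁻¹ ∈ S.Q ∨ g₀⁻¹ * S.a t (g₀ * g) ∈ T) :
    ∃ g ∈ T, g₀ * g ∈ S.ι.range := by
  haveI := S.normal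
  set X : Set (K ⧸ S.Q) := (fun g => ((g₀ * g : K) : K ⧸ S.Q)) '' (T : Set K) with hX
  have hXs : ∀ t : A, ∀ x ∈ X, quotOp S.a S.Q S.stable t x ∈ X := by
    rintro t x ⟨g, hg, rfl⟩
    rw [Char.Glauberman.quotOp_mk]
    rcases hst t g hg with h | h
    · refine ⟨g, hg, ?_⟩
      refine (QuotientGroup.eq.2 ?_)
      have := S.normal.conj_mem _ h (g₀ * g)⁻¹
      simpa [mul_assoc] using this
    · exact ⟨g₀⁻¹ * S.a t (g₀ * g), h, by simp⟩
  have hcard : Nat.card X = Nat.card (T.map (QuotientGroup.mk' S.Q)) := by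
    refine Nat.card_congr (Equiv.subtypeEquiv (Equiv.mulLeft ((g₀ : K ⧸ S.Q))⁻¹) fun x => ?_)
    constructor
    · rintro ⟨g, hg, rfl⟩
      exact ⟨g, hg, by simp⟩
    · rintro ⟨g, hg, he⟩
      refine ⟨g, hg, ?_⟩
      have he' : ((g : K) : K ⧸ S.Q) = (g₀ : K ⧸ S.Q)⁻¹ * x := he
      simp [he']
  have hnd : ¬ p ∣ Nat.card X := fun h => S.index (by
    rw [Subgroup.index_eq_card]
    exact (hcard ▸ h).trans (Subgroup.card_subgroup_dvd_card _))
  obtain ⟨x, ⟨g, hg, rfl⟩, hfix⟩ := Char.Glauberman.exists_fixed_mem S.hA X hXs hnd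
  refine ⟨g, hg, (S.mem_range _).2 fun t => ?_⟩
  have h := hfix t
  rw [Char.Glauberman.quotOp_mk, QuotientGroup.eq] at h
  have := S.normal.conj_mem _ (inv_mem h) (g₀ * g)
  simpa [mul_assoc] using this

end Cfsg.Agent.Fg24.NormalSylowCorr
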