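import Mathlib
import Cfsg.Agent.Fg24.NormalSylowCorr.Basic
import Cfsg.Agent.ProjExt.Criteria
import Cfsg.Agent.Char.Integral

/-!
The correspondence over a character of the normal Sylow subgroup fixed by the whole group.
-/

set_option autoImplicit false

namespace Cfsg.Agent.Fg24.NormalSylowCorr

open scoped ComplexConjugate
open Cfsg.Agent
open Cfsg.Agent.Char.Glauberman (InvFun restrictOp quotOp Fixed vec mult IsCorr)

universe u v

variable {p : ℕ} [hp : Fact p.Prime] {K D : Type u} [Group K] [Group D] {A : Type v} [Group A]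
  [Fintype K] [Fintype D]

/-- An invariant character of a normal Sylow subgroup has an invariant extension. -/
theorem exists_op_extension (a : A →* MulAut K) (Q : Subgroup K) [Q.Normal] (hQ : IsPGroup p Q)
    (hidx : ¬ p ∣ Q.index) (hst : ∀ (t : A), ∀ q ∈ Q, a t q ∈ Q) {θ : Q → ℂ}
    (hθ : Cfsg.IsIrrCharacter Q θ) (hinv : ∀ k : K, Char.conjFun k θ = θ)
    (hθA : InvFun (restrictOp a Q hst) θ) :
    ∃ χ : K → ℂ, Cfsg.IsIrrCharacter K χ ∧ (∀ q : Q, χ q = θ q) ∧ InvFun a χ := by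
  classical
  have hinv' : ∀ (g : K) (n : Q),
      θ ⟨g * n * g⁻¹, (inferInstance : Q.Normal).conj_mem (n : K) n.2 g⟩ = θ n := fun g n =>
    congrFun (hinv g) n
  obtain ⟨j, hj⟩ := IsPGroup.iff_card.1 hQ
  have hcopQ : Q.index.Coprime (Nat.card Q) := by
    rw [hj]
    exact Nat.Coprime.pow_right j (hp.out.coprime_iff_not_dvd.2 hidx).symm
  obtain ⟨d, hd0, hd⟩ := Char.IsIrr.degree hθ
  have hdcop : Nat.Coprime Q.index d := hcopQ.coprime_dvd_right (Char.IsIrr.degree_dvd_card hθ hd)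
  obtain ⟨lam, hlam⟩ := ProjExt.exists_detChar_hom (Char.IsIrr.isCharacter hθ)
  have hlamo : orderOf lam ∣ Nat.card Q := by
    refine orderOf_dvd_of_pow_eq_one (MonoidHom.ext fun n => ?_)
    rw [MonoidHom.pow_apply, ← map_pow, pow_card_eq_one', map_one, MonoidHom.one_apply]
  have hlamcop : Nat.Coprime Q.index (orderOf lam) := hcopQ.coprime_dvd_right hlamo
  have hlaminv : ∀ (g : K) (n : Q),
      lam ⟨g * n * g⁻¹, (inferInstance : Q.Normal).conj_mem (n : K) n.2 g⟩ = lam n := by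
    intro g n
    let f : Q →* Q :=
      { toFun := fun m => ⟨g * m * g⁻¹, (inferInstance : Q.Normal).conj_mem (m : K) m.2 g⟩
        map_one' := by simp
        map_mul' := fun x y => Subtype.ext (by simp [mul_assoc]) }
    have h := ProjExt.detChar_comp (Char.IsIrr.isCharacter hθ) f
    rw [show (fun x => θ (f x)) = θ from funext fun x => hinv' g x] at h
    exact Units.ext (((congrFun hlam _).symm.trans (congrFun h n).symm).trans (congrFun hlam n))
  obtain ⟨μ, hμN, hμo, hμu⟩ := ProjExt.exists_ext_of_coprime Q lam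
    (ProjExt.orderOf_pos_hom lam) hlaminv hlamcop
  obtain ⟨χ₀, hχ₀, hres₀⟩ := ProjExt.extends_of_det Q hθ hinv' hd hdcop μ
    fun n => by rw [hμN]; exact (congrFun hlam n).symm
  obtain ⟨χ, ⟨hχ, hres, hdet⟩, huniq⟩ := ProjExt.exists_unique_det Q hθ hd hdcop
    (Char.IsIrr.isCharacter hχ₀) hres₀ μ fun n => by rw [hμN]; exact (congrFun hlam n).symm
  refine ⟨χ, hχ, hres, fun t k => ?_⟩
  let f : K →* K := (a t).toMonoidHom
  let fQ : Q →* Q := (restrictOp a Q hst t).toMonoidHom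
  have hfres : ∀ n : Q, χ (f n) = θ n := fun n => (hres (fQ n)).trans (hθA t n)
  have hdetc := ProjExt.detChar_comp (Char.IsIrr.isCharacter hχ) f
  have heq : μ.comp f = μ := by
    refine hμu _ (fun n => ?_) ?_
    · rw [MonoidHom.comp_apply]
      refine Units.ext ?_
      have h2 := ProjExt.detChar_comp (Char.IsIrr.isCharacter hθ) fQ
      rw [show (fun m => θ (fQ m)) = θ from funext fun m => hθA t m] at h2
      have h3 := congrFun h2 n
      rw [hlam] at h3
      rw [show f n = ((fQ n : Q) : K) from rfl, hμN]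
      exact h3.symm
    · refine hcopQ.coprime_dvd_right ((orderOf_dvd_of_pow_eq_one (MonoidHom.ext fun m => ?_)).trans
        (hμo ▸ hlamo))
      rw [MonoidHom.pow_apply, MonoidHom.comp_apply, ← MonoidHom.pow_apply, pow_orderOf_eq_one]
      rfl
  have h := huniq (fun x => χ (f x)) (Char.isCharacter_comp f (Char.IsIrr.isCharacter hχ)) hfres (by
    rw [hdetc, hdet]
    funext x
    exact congrArg (fun u : ℂˣ => (u : ℂ)) (DFunLike.congr_fun heq x))
  exact congrFun h k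

namespace Setup

variable (S : Setup p K D A)

/-- The map onto the fixed points of the quotient. -/
noncomputable def toFixed : haveI := S.normal; D →* Fixed (quotOp S.a S.Q S.stable) :=
  haveI := S.normal
  ((QuotientGroup.mk' S.Q).comp S.ι).codRestrict _ fun c t => by
    show quotOp S.a S.Q S.stable t ((S.ι c : K) : K ⧸ S.Q) = _
    rw [Char.Glauberman.quotOp_mk]
    exact (QuotientGroup.eq.2 (by
      have := S.normal.conj_mem _ (inv_mem ((S.mem_range _).1 ⟨c, rfl⟩ t)) (S.ι c)⁻¹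
      simpa [mul_assoc] using this))

theorem toFixed_val (c : D) : (S.toFixed c : K ⧸ S.Q) = ((S.ι c : K) : K ⧸ S.Q) := rfl

theorem toFixed_surjective : Function.Surjective S.toFixed := by
  haveI := S.normal
  rintro ⟨y, hy⟩
  obtain ⟨k, rfl⟩ := QuotientGroup.mk_surjective y
  obtain ⟨c, hc⟩ := (S.mem_range k).2 fun t => by
    have h : quotOp S.a S.Q S.stable t (k : K ⧸ S.Q) = (k : K ⧸ S.Q) := hy t
    rw [Char.Glauberman.quotOp_mk, QuotientGroup.eq] at h
    have := S.normal.conj_mem _ (inv_mem h) k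
    simpa [mul_assoc] using this
  exact ⟨c, Subtype.ext (by rw [toFixed_val, hc])⟩

theorem mem_ker_toFixed (c : D) : c ∈ S.toFixed.ker ↔ c ∈ S.Qd := by
  haveI := S.normal
  rw [MonoidHom.mem_ker, Subtype.ext_iff, toFixed_val]
  exact QuotientGroup.eq_one_iff (S.ι c)

end Setup

/-- Pulling back along a surjection preserves inner products. -/
theorem classInner_comp {H F : Type u} [Group H] [Group F] [Fintype H] [Fintype F] (f : H →* F)
    (hf : Function.Surjective f) (u v : F → ℂ) :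
    Cfsg.classInner (fun h => u (f h)) (fun h => v (f h)) = Cfsg.classInner u v := by
  classical
  have hfib : ∀ y : F, (Finset.univ.filter fun h : H => f h = y).card = Nat.card f.ker := by
    intro y
    obtain ⟨x, rfl⟩ := hf y
    rw [← Fintype.card_subtype, ← Nat.card_eq_fintype_card]
    refine Nat.card_congr (Equiv.subtypeEquiv (Equiv.mulLeft x⁻¹) fun h => ?_)
    rw [Equiv.coe_mulLeft, MonoidHom.mem_ker, map_mul, map_inv, inv_mul_eq_one, eq_comm]
  have hcard : Nat.card H = Nat.card F * Nat.card f.ker := by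
    rw [← f.ker.card_mul_index, Subgroup.index_ker, MonoidHom.range_eq_top.2 hf, Subgroup.card_top,
      mul_comm]
  simp only [Cfsg.classInner]
  rw [← Finset.sum_fiberwise Finset.univ f, hcard, Finset.mul_sum, Finset.mul_sum]
  refine Finset.sum_congr rfl fun y _ => ?_
  rw [Finset.sum_congr rfl fun h hh => by rw [(Finset.mem_filter.1 hh).2], Finset.sum_const, hfib,
    nsmul_eq_mul]
  have h1 : (Nat.card f.ker : ℂ) ≠ 0 := Nat.cast_ne_zero.2 Nat.card_pos.ne'
  have h2 : (Nat.card F : ℂ) ≠ 0 := Nat.cast_ne_zero.2 Nat.card_pos.ne'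
  push_cast
  field_simp

variable (S : Setup p K D A) [Fintype S.Q] [Fintype S.Qd]

/-- `galEta` of invariant functions is invariant. -/
theorem galEta_inv {H : Type u} [Group H] [Fintype H] (b : A →* MulAut H) (N : Subgroup H)
    [Fintype N] (hN : ∀ (t : A), ∀ n ∈ N, b t n ∈ N) {χ ψ : H → ℂ} (hχ : InvFun b χ)
    (hψ : InvFun b ψ) : InvFun b (Char.galEta N χ ψ) := by
  intro t g
  simp only [Char.galEta]
  congr 1
  refine (Fintype.sum_equiv (restrictOp b N hN t).toEquiv _ _ fun n => ?_).symm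
  show ψ ((n : H) * g) * conj (χ ((n : H) * g)) =
    ψ (b t n * b t g) * conj (χ (b t n * b t g))
  rw [← map_mul, hψ, hχ]

/-- The correspondence over a fixed character of `Q`. -/
theorem core {θ : S.Q → ℂ} (hθ : Cfsg.IsIrrCharacter S.Q θ)
    (hinv : haveI := S.normal; ∀ k : K, Char.conjFun k θ = θ)
    (hθA : InvFun (restrictOp S.a S.Q S.stable) θ) :
    (∀ χ : Cfsg.IrrCharacter K, InvFun S.a (χ : K → ℂ) → S.OverK θ (χ : K → ℂ) →
      ∃ ξ : Cfsg.IrrCharacter D, InvFun S.b (ξ : D → ℂ) ∧ S.OverD θ (ξ : D → ℂ) ∧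
        ((S.m χ ξ : ZMod p) = 1 ∨ (S.m χ ξ : ZMod p) = -1) ∧
        (∃ dχ dξ : ℕ, (χ : K → ℂ) 1 = dχ ∧ (ξ : D → ℂ) 1 = dξ ∧
          ((dξ : ZMod p) = dχ ∨ (dξ : ZMod p) = -(dχ : ZMod p))) ∧
        ∀ ξ' : Cfsg.IrrCharacter D, InvFun S.b (ξ' : D → ℂ) → S.OverD θ (ξ' : D → ℂ) → ξ' ≠ ξ →
          p ∣ S.m χ ξ') ∧
    (∀ ξ : Cfsg.IrrCharacter D, InvFun S.b (ξ : D → ℂ) → S.OverD θ (ξ : D → ℂ) →
      ∃ χ : Cfsg.IrrCharacter K, InvFun S.a (χ : K → ℂ) ∧ S.OverK θ (χ : K → ℂ) ∧ ¬ p ∣ S.m χ ξ) ∧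
    (∀ χ χ' : Cfsg.IrrCharacter K, InvFun S.a (χ : K → ℂ) → S.OverK θ (χ : K → ℂ) →
      InvFun S.a (χ' : K → ℂ) → S.OverK θ (χ' : K → ℂ) →
      ∀ ξ : Cfsg.IrrCharacter D, InvFun S.b (ξ : D → ℂ) → S.OverD θ (ξ : D → ℂ) →
        ¬ p ∣ S.m χ ξ → ¬ p ∣ S.m χ' ξ → χ = χ') := by
  classical
  haveI := S.normal
  haveI := S.qd_normal
  set aq := quotOp S.a S.Q S.stable with haq
  have : Fintype (K ⧸ S.Q) := Fintype.ofFinite _
  have : Fintype (Fixed aq) := Fintype.ofFinite _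
  obtain ⟨hfwd, hinj, hsurj⟩ : IsCorr p aq := Char.Glauberman.isCorr_of_coprime S.hA (by
    rw [← Subgroup.index_eq_card]; exact S.index)
  obtain ⟨E, hE, hEres, hEinv⟩ := exists_op_extension S.a S.Q S.pgroup S.index S.stable hθ hinv hθA
  let π : D →* Fixed aq := S.toFixed
  let Ed : D → ℂ := fun c => E (S.ι c)
  have hEdres : ∀ q : S.Qd, Ed q = S.θd θ q := fun q => hEres (S.eQ q)
  have hEd : Cfsg.IsIrrCharacter D Ed := ProjExt.isIrr_of_res (N := S.Qd)
    (Char.isCharacter_comp S.ι (Char.IsIrr.isCharacter hE)) (S.isIrr_θd hθ) hEdres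
  have hEdinv : InvFun S.b Ed := fun t c => by
    show E (S.ι (S.b t c)) = E (S.ι c)
    rw [S.compat, hEinv]
  have hEres' : (fun q : S.Q => E q) = θ := funext hEres
  have hEdres' : (fun q : S.Qd => Ed q) = S.θd θ := funext hEdres
  -- decomposition
  have hdecK : ∀ χ : Cfsg.IrrCharacter K, InvFun S.a (χ : K → ℂ) → S.OverK θ (χ : K → ℂ) →
      ∃ β : Cfsg.IrrCharacter (K ⧸ S.Q), InvFun aq (β : K ⧸ S.Q → ℂ) ∧
        ∀ k : K, (χ : K → ℂ) k = (β : K ⧸ S.Q → ℂ) k * E k := by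
    intro χ hχ hov
    obtain ⟨hη, hηker, hprod⟩ := (Char.gallagher S.Q hE (by rw [hEres']; exact hθ) χ.2).1
      (by rw [hEres']; exact hov)
    obtain ⟨β, hβ, hβe⟩ := exists_descend (QuotientGroup.mk' S.Q) (QuotientGroup.mk'_surjective _) hη
      fun h hh => hηker h (by rwa [QuotientGroup.ker_mk'] at hh)
    refine ⟨⟨β, hβ⟩, fun t y => ?_, fun k => ?_⟩
    · obtain ⟨k, rfl⟩ := QuotientGroup.mk_surjective y
      show β (quotOp S.a S.Q S.stable t (k : K ⧸ S.Q)) = β (k : K ⧸ S.Q)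
      rw [Char.Glauberman.quotOp_mk]
      refine ((hβe (S.a t k)).trans ?_).trans (hβe k).symm
      exact galEta_inv S.a S.Q S.stable hEinv hχ t k
    · show (χ : K → ℂ) k = β (k : K ⧸ S.Q) * E k
      rw [show β (k : K ⧸ S.Q) = _ from hβe k]
      exact congrFun hprod k
  have hdecD : ∀ ξ : Cfsg.IrrCharacter D, S.OverD θ (ξ : D → ℂ) →
      ∃ γ : Cfsg.IrrCharacter (Fixed aq),
        ∀ c : D, (ξ : D → ℂ) c = (γ : Fixed aq → ℂ) (π c) * Ed c := by
    intro ξ hov
    obtain ⟨hη, hηker, hprod⟩ := (Char.gallagher S.Qd hEd (by rw [hEdres']; exact S.isIrr_θd hθ) ξ.2).1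
      (by rw [hEdres']; exact hov)
    obtain ⟨γ, hγ, hγe⟩ := exists_descend π S.toFixed_surjective hη
      fun h hh => hηker h ((S.mem_ker_toFixed h).1 hh)
    exact ⟨⟨γ, hγ⟩, fun c => by
      show (ξ : D → ℂ) c = γ (π c) * Ed c
      rw [hγe c]
      exact congrFun hprod c⟩
  -- the multiplicity
  have hmul : ∀ (χ : Cfsg.IrrCharacter K) (ξ : Cfsg.IrrCharacter D)
      (β : Cfsg.IrrCharacter (K ⧸ S.Q)) (γ : Cfsg.IrrCharacter (Fixed aq)),
      (∀ k : K, (χ : K → ℂ) k = (β : K ⧸ S.Q → ℂ) k * E k) →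
      (∀ c : D, (ξ : D → ℂ) c = (γ : Fixed aq → ℂ) (π c) * Ed c) →
      (S.m χ ξ : ZMod p) = vec (p := p) aq β γ := by
    intro χ ξ β γ hχ hξ
    have h1 : Cfsg.classInner (fun c => (χ : K → ℂ) (S.ι c)) (ξ : D → ℂ) =
        Cfsg.classInner (fun y : Fixed aq => (β : K ⧸ S.Q → ℂ) y) (γ : Fixed aq → ℂ) := by
      rw [← classInner_comp π S.toFixed_surjective]
      simp only [Cfsg.classInner]
      congr 1
      have hF : ∀ (q : S.Qd) (c : D), π ((q : D) * c) = π c := fun q c => by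
        rw [map_mul, (MonoidHom.mem_ker).1 ((S.mem_ker_toFixed q).2 q.2), one_mul]
      set F : D → ℂ := fun c => (β : K ⧸ S.Q → ℂ) (π c : K ⧸ S.Q) * conj ((γ : Fixed aq → ℂ) (π c))
        with hFdef
      have hl : (∑ c, (χ : K → ℂ) (S.ι c) * conj ((ξ : D → ℂ) c)) =
          ∑ c, F c * (Ed c * conj (Ed c)) := by
        refine Finset.sum_congr rfl fun c _ => ?_
        rw [hχ, hξ, map_mul, hFdef]
        beta_reduce
        show (β : K ⧸ S.Q → ℂ) (S.ι c : K ⧸ S.Q) * Ed c * _ = _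
        rw [show (π c : K ⧸ S.Q) = (S.ι c : K ⧸ S.Q) from S.toFixed_val c]
        ring
      rw [hl]
      apply mul_left_cancel₀ (show (Nat.card S.Qd : ℂ) ≠ 0 from Nat.cast_ne_zero.2 Nat.card_pos.ne')
      calc (Nat.card S.Qd : ℂ) * ∑ c, F c * (Ed c * conj (Ed c))
          = ∑ q : S.Qd, ∑ c, F ((q : D) * c) * (Ed ((q : D) * c) * conj (Ed ((q : D) * c))) := by
            rw [Nat.card_eq_fintype_card, ← Finset.card_univ, ← nsmul_eq_mul, ← Finset.sum_const]
            exact Finset.sum_congr rfl fun q _ =>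
              (Fintype.sum_equiv (Equiv.mulLeft (q : D)) _ _ fun c => rfl).symm
        _ = ∑ c, F c * ∑ q : S.Qd, Ed ((q : D) * c) * conj (Ed ((q : D) * c)) := by
            rw [Finset.sum_comm]
            refine Finset.sum_congr rfl fun c _ => ?_
            rw [Finset.mul_sum]
            refine Finset.sum_congr rfl fun q _ => ?_
            rw [show F ((q : D) * c) = F c by simp only [hFdef, hF]]
        _ = (Nat.card S.Qd : ℂ) * ∑ c, F c := by
            rw [Finset.mul_sum]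
            refine Finset.sum_congr rfl fun c _ => ?_
            have h2 := Char.avg_normSq_eq_one S.Qd hEd (by rw [hEdres']; exact S.isIrr_θd hθ) c
            rw [inv_mul_eq_iff_eq_mul₀ (Nat.cast_ne_zero.2 Nat.card_pos.ne'), mul_one] at h2
            rw [h2, mul_comm]
    rw [S.m_spec, Char.Glauberman.mult_spec] at h1
    rw [vec, show S.m χ ξ = mult (Fixed aq) β γ by exact_mod_cast h1]
  -- products are irreducible, invariant and over `θ`
  have hmkK : ∀ β : Cfsg.IrrCharacter (K ⧸ S.Q), InvFun aq (β : K ⧸ S.Q → ℂ) →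
      ∃ χ : Cfsg.IrrCharacter K, InvFun S.a (χ : K → ℂ) ∧ S.OverK θ (χ : K → ℂ) ∧
        ∀ k : K, (χ : K → ℂ) k = (β : K ⧸ S.Q → ℂ) k * E k := by
    intro β hβ
    refine ⟨⟨_, Char.isIrr_mul_of_res_irr S.Q hE (by rw [hEres']; exact hθ)
      (Char.isIrrCharacter_comp (QuotientGroup.mk' S.Q) (QuotientGroup.mk'_surjective _) β.2)
      fun n hn => by rw [QuotientGroup.mk'_apply, (QuotientGroup.eq_one_iff n).2 hn, map_one]⟩,
      fun t k => ?_, ?_, fun k => rfl⟩
    · show (β : K ⧸ S.Q → ℂ) ((S.a t k : K) : K ⧸ S.Q) * E (S.a t k) = _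
      rw [hEinv, ← Char.Glauberman.quotOp_mk S.a S.Q S.stable, hβ]
      rfl
    · show Cfsg.classInner (fun q : S.Q => (β : K ⧸ S.Q → ℂ) ((q : K) : K ⧸ S.Q) * E q) θ ≠ 0
      rw [show (fun q : S.Q => (β : K ⧸ S.Q → ℂ) ((q : K) : K ⧸ S.Q) * E q) =
        (β : K ⧸ S.Q → ℂ) 1 • θ from funext fun q => by
          rw [(QuotientGroup.eq_one_iff (q : K)).2 q.2, hEres]; rfl,
        Char.classInner_smul_left, Char.classInner_irr_self hθ, mul_one]
      exact Char.IsIrr.one_ne_zero β.2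
  have hmkD : ∀ γ : Cfsg.IrrCharacter (Fixed aq),
      ∃ ξ : Cfsg.IrrCharacter D, InvFun S.b (ξ : D → ℂ) ∧ S.OverD θ (ξ : D → ℂ) ∧
        ∀ c : D, (ξ : D → ℂ) c = (γ : Fixed aq → ℂ) (π c) * Ed c := by
    intro γ
    refine ⟨⟨_, Char.isIrr_mul_of_res_irr S.Qd hEd (by rw [hEdres']; exact S.isIrr_θd hθ)
      (Char.isIrrCharacter_comp π S.toFixed_surjective γ.2)
      fun n hn => by rw [(MonoidHom.mem_ker).1 ((S.mem_ker_toFixed n).2 hn), map_one]⟩,
      fun t c => ?_, ?_, fun c => rfl⟩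
    · show (γ : Fixed aq → ℂ) (π (S.b t c)) * Ed (S.b t c) = (γ : Fixed aq → ℂ) (π c) * Ed c
      rw [hEdinv, show π (S.b t c) = π c from Subtype.ext (by
        show ((S.ι (S.b t c) : K) : K ⧸ S.Q) = ((S.ι c : K) : K ⧸ S.Q)
        rw [S.compat, ← Char.Glauberman.quotOp_mk S.a S.Q S.stable, ← S.toFixed_val c]
        exact (π c).2 t)]
    · show Cfsg.classInner (fun q : S.Qd => (γ : Fixed aq → ℂ) (π q) * Ed q) (S.θd θ) ≠ 0
      rw [show (fun q : S.Qd => (γ : Fixed aq → ℂ) (π q) * Ed q) =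
        (γ : Fixed aq → ℂ) 1 • S.θd θ from funext fun q => by
          rw [(MonoidHom.mem_ker).1 ((S.mem_ker_toFixed q).2 q.2), hEdres]; rfl,
        Char.classInner_smul_left, Char.classInner_irr_self (S.isIrr_θd hθ), mul_one]
      exact Char.IsIrr.one_ne_zero γ.2
  have hdiv : ∀ m : ℕ, p ∣ m ↔ (m : ZMod p) = 0 := fun m => (ZMod.natCast_eq_zero_iff m p).symm
  refine ⟨fun χ hχ hov => ?_, fun ξ hξ hov => ?_, fun χ χ' hχ hov hχ' hov' ξ hξ hovξ hm hm' => ?_⟩
  · obtain ⟨β, hβ, hβe⟩ := hdecK χ hχ hov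
    obtain ⟨⟨γ, hγ, huniq⟩, hpm⟩ := hfwd β hβ
    obtain ⟨ξ, hξ, hξov, hξe⟩ := hmkD γ
    have hmv := hmul χ ξ β γ hβe hξe
    refine ⟨ξ, hξ, hξov, ?_, ?_, fun ξ' hξ' hov' hne => ?_⟩
    · rw [hmv]; exact hpm γ hγ
    · obtain ⟨dθ, hdθ⟩ := Char.IsChar.degree (Char.IsIrr.isCharacter hθ)
      obtain ⟨dβ, hdβ⟩ := Char.IsChar.degree (Char.IsIrr.isCharacter β.2)
      obtain ⟨dγ, hdγ⟩ := Char.IsChar.degree (Char.IsIrr.isCharacter γ.2)
      have hE1 : E 1 = dθ := (hEres 1).trans hdθ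
      refine ⟨dβ * dθ, dγ * dθ, ?_, ?_, ?_⟩
      · rw [hβe, hE1, Nat.cast_mul, ← hdβ]; rfl
      · rw [hξe, show Ed 1 = dθ by show E (S.ι 1) = _; rw [map_one, hE1], map_one, hdγ]
        push_cast
        rfl
      · have hsum := Char.Glauberman.res_eq_sum (Fixed aq) β 1
        choose deg hdeg using fun δ : Cfsg.IrrCharacter (Fixed aq) =>
          Char.IsChar.degree (Char.IsIrr.isCharacter δ.2)
        simp only [hdeg, OneMemClass.coe_one] at hsum
        rw [hdβ] at hsum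
        have hsum' : dβ = ∑ δ, mult (Fixed aq) β δ * deg δ := by exact_mod_cast hsum
        have hγd : deg γ = dγ := by
          have := (hdeg γ).symm.trans hdγ
          exact_mod_cast this
        have hb : (dβ : ZMod p) = vec (p := p) aq β γ * (dγ : ZMod p) := by
          rw [hsum', Nat.cast_sum, Finset.sum_eq_single γ]
          · rw [Nat.cast_mul, hγd]; rfl
          · intro δ _ hδ
            have : vec (p := p) aq β δ = 0 := by_contra fun h => hδ (huniq δ h)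
            rw [Nat.cast_mul, show ((mult (Fixed aq) β δ : ℕ) : ZMod p) = 0 from this, zero_mul]
          · simp
        rcases hpm γ hγ with h | h <;> rw [h] at hb <;> push_cast <;> rw [hb]
        · left; rw [one_mul]
        · right; ring
    · obtain ⟨γ', hγ'e⟩ := hdecD ξ' hov'
      rw [hdiv, hmul χ ξ' β γ' hβe hγ'e]
      by_contra hv
      refine hne (Subtype.ext (funext fun c => ?_))
      rw [hγ'e, hξe, huniq γ' hv]
  · obtain ⟨γ, hγe⟩ := hdecD ξ hov
    obtain ⟨β, hβ, hv⟩ := hsurj γ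
    obtain ⟨χ, hχ, hχov, hχe⟩ := hmkK β hβ
    exact ⟨χ, hχ, hχov, by rw [hdiv, hmul χ ξ β γ hχe hγe]; exact hv⟩
  · obtain ⟨β, hβ, hβe⟩ := hdecK χ hχ hov
    obtain ⟨β', hβ', hβ'e⟩ := hdecK χ' hχ' hov'
    obtain ⟨γ, hγe⟩ := hdecD ξ hovξ
    rw [hdiv, hmul χ ξ β γ hβe hγe] at hm
    rw [hdiv, hmul χ' ξ β' γ hβ'e hγe] at hm'
    refine Subtype.ext (funext fun k => ?_)
    rw [hβe, hβ'e, hinj β β' hβ hβ' γ hm hm']

end Cfsg.Agent.Fg24.NormalSylowCorr
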