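import Mathlib
import Cfsg.Agent.Fg24.NormalSylowCorr.Core

/-!
The correspondence for all invariant characters, by passing to inertia groups.
-/

set_option autoImplicit false

namespace Cfsg.Agent.Fg24.NormalSylowCorr

open scoped ComplexConjugate
open Cfsg.Agent
open Cfsg.Agent.Char.Glauberman (InvFun restrictOp quotOp Fixed)

universe u v

theorem classInner_equiv {N N' : Type u} [Group N] [Group N'] [Fintype N] [Fintype N'] (e : N ≃* N')
    (f g : N' → ℂ) :
    Cfsg.classInner (fun x => f (e x)) (fun x => g (e x)) = Cfsg.classInner f g := by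
  rw [Cfsg.classInner, Cfsg.classInner, Nat.card_congr e.toEquiv]
  congr 1
  exact Fintype.sum_equiv e.toEquiv _ _ fun x => rfl

/-- Inducing commutes with operators fixing the subgroup. -/
theorem indFun_op {H : Type u} [Group H] [Fintype H] {A : Type v} [Group A] (b : A →* MulAut H)
    (T : Subgroup H) (hT : ∀ (t : A), ∀ x ∈ T, b t x ∈ T) (f : T → ℂ) (t : A) (g : H) :
    Cfsg.indFun T (fun x => f (restrictOp b T hT t x)) g = Cfsg.indFun T f (b t g) := by
  rw [Char.indFun_apply, Char.indFun_apply]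
  congr 1
  refine Fintype.sum_equiv (b t).toEquiv _ _ fun x => ?_
  show Cfsg.extendByZero T _ (x⁻¹ * g * x) = Cfsg.extendByZero T f ((b t x)⁻¹ * b t g * b t x)
  rw [← map_inv, ← map_mul, ← map_mul]
  by_cases h : x⁻¹ * g * x ∈ T
  · rw [Char.extendByZero_of_mem _ _ h, Char.extendByZero_of_mem _ _ (hT t _ h)]
    rfl
  · rw [Char.extendByZero_of_not_mem _ _ h, Char.extendByZero_of_not_mem]
    intro h'
    apply h
    have := hT t⁻¹ _ h'
    simpa [← MulAut.mul_apply, ← map_mul] using this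

namespace Setup

variable {p : ℕ} [hp : Fact p.Prime] {K D : Type u} [Group K] [Group D] {A : Type v} [Group A]
  (S : Setup p K D A)

theorem conjFun_op {θ : S.Q → ℂ} (hθA : InvFun (restrictOp S.a S.Q S.stable) θ) (t : A) (g : K) :
    haveI := S.normal
    ∀ q : S.Q, Char.conjFun (S.a t g) θ (restrictOp S.a S.Q S.stable t q) = Char.conjFun g θ q := by
  haveI := S.normal
  intro q
  rw [Char.conjFun_apply, Char.conjFun_apply,
    ← hθA t ⟨g * q * g⁻¹, S.normal.conj_mem _ q.2 g⟩]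
  refine congrArg θ (Subtype.ext ?_)
  show S.a t g * S.a t q * (S.a t g)⁻¹ = S.a t (g * q * g⁻¹)
  rw [map_mul, map_mul, map_inv]

theorem conjFun_op_eq {θ θ' : S.Q → ℂ} (hθA : InvFun (restrictOp S.a S.Q S.stable) θ)
    (hθ'A : InvFun (restrictOp S.a S.Q S.stable) θ') (t : A) (g : K)
    (h : haveI := S.normal; Char.conjFun g θ = θ') :
    haveI := S.normal; Char.conjFun (S.a t g) θ = θ' := by
  haveI := S.normal
  funext q
  obtain ⟨q', rfl⟩ : ∃ q', restrictOp S.a S.Q S.stable t q' = q :=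
    (restrictOp S.a S.Q S.stable t).surjective q
  rw [conjFun_op S hθA, h, hθ'A]

/-- The inertia group. -/
def inert (θ : S.Q → ℂ) : Subgroup K := haveI := S.normal; Char.inertia θ

theorem mem_inert {θ : S.Q → ℂ} {g : K} :
    g ∈ S.inert θ ↔ (haveI := S.normal; Char.conjFun g θ = θ) := Iff.rfl

theorem inert_stable {θ : S.Q → ℂ} (hθA : InvFun (restrictOp S.a S.Q S.stable) θ) (t : A) :
    ∀ g ∈ S.inert θ, S.a t g ∈ S.inert θ := fun g hg => S.conjFun_op_eq hθA hθA t g hg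

theorem le_inert {θ : S.Q → ℂ} (hθ : Cfsg.IsIrrCharacter S.Q θ) : S.Q ≤ S.inert θ := by
  haveI := S.normal
  exact Char.le_inertia (Char.isClassFunction_of_isIrr hθ)

theorem comap_stable {T : Subgroup K} (hT : ∀ (t : A), ∀ g ∈ T, S.a t g ∈ T) (t : A) :
    ∀ c ∈ T.comap S.ι, S.b t c ∈ T.comap S.ι := fun c hc => by
  show S.ι (S.b t c) ∈ T
  rw [S.compat]
  exact hT t _ hc

/-- The set-up in an invariant overgroup of `Q`. -/
noncomputable def restrict (T : Subgroup K) (hQT : S.Q ≤ T)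
    (hT : ∀ (t : A), ∀ g ∈ T, S.a t g ∈ T) : Setup p T (T.comap S.ι) A where
  a := restrictOp S.a T hT
  b := restrictOp S.b (T.comap S.ι) (S.comap_stable hT)
  ι := (S.ι.comp (T.comap S.ι).subtype).codRestrict T fun c => c.2
  Q := S.Q.subgroupOf T
  hA := S.hA
  inj x y h := Subtype.ext (S.inj (congrArg Subtype.val h))
  compat t c := Subtype.ext (S.compat t c)
  mem_range k := by
    constructor
    · rintro ⟨c, rfl⟩ t
      exact (S.mem_range _).1 ⟨(c : D), rfl⟩ t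
    · intro h
      obtain ⟨c, hc⟩ := (S.mem_range (k : K)).2 fun t => h t
      exact ⟨⟨c, by show S.ι c ∈ T; rw [hc]; exact k.2⟩, Subtype.ext hc⟩
  normal := S.normal.subgroupOf T
  pgroup := S.pgroup.comap_of_injective T.subtype T.subtype_injective
  index h := S.index (h.trans ⟨T.index, (Subgroup.relIndex_mul_index hQT).symm⟩)
  stable t q hq := S.stable t _ hq

variable [Fintype K] [Fintype D] [Fintype S.Q] [Fintype S.Qd]

/-- An invariant character has an invariant constituent on `Q`. -/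
theorem exists_const_K [Finite A] (χ : Cfsg.IrrCharacter K) (hχ : InvFun S.a (χ : K → ℂ)) :
    ∃ θ : S.Q → ℂ, Cfsg.IsIrrCharacter S.Q θ ∧ InvFun (restrictOp S.a S.Q S.stable) θ ∧
      S.OverK θ (χ : K → ℂ) := by
  haveI := S.normal
  obtain ⟨n, hn⟩ := IsPGroup.iff_card.1 S.hA
  have hsol : Group.IsSolvable A := by
    have := IsPGroup.isNilpotent S.hA
    infer_instance
  obtain ⟨θ, hm, hinv⟩ := Char.Glauberman.exists_inv_constituent S.a S.Q S.stable
    (by rw [hn]; exact Nat.Coprime.pow_right n (hp.out.coprime_iff_not_dvd.2 S.index).symm)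
    (Or.inl hsol) χ hχ
  refine ⟨θ, θ.2, hinv, ?_⟩
  show Cfsg.classInner (fun q : S.Q => (χ : K → ℂ) q) (θ : S.Q → ℂ) ≠ 0
  rw [Char.Glauberman.mult_spec]
  exact Nat.cast_ne_zero.2 hm

theorem exists_const_D [Finite A] (ξ : Cfsg.IrrCharacter D) (hξ : InvFun S.b (ξ : D → ℂ)) :
    ∃ θ : S.Q → ℂ, Cfsg.IsIrrCharacter S.Q θ ∧ InvFun (restrictOp S.a S.Q S.stable) θ ∧
      S.OverD θ (ξ : D → ℂ) := by
  haveI := S.normal
  haveI := S.qd_normal
  obtain ⟨n, hn⟩ := IsPGroup.iff_card.1 S.hA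
  have hsol : Group.IsSolvable A := by
    have := IsPGroup.isNilpotent S.hA
    infer_instance
  have hidx : ¬ p ∣ S.Qd.index := by
    intro h
    apply S.index
    rw [Subgroup.index_comap] at h
    exact h.trans (Subgroup.relIndex_dvd_index_of_normal _ _)
  obtain ⟨θ, hm, hinv⟩ := Char.Glauberman.exists_inv_constituent S.b S.Qd S.stable_qd
    (by rw [hn]; exact Nat.Coprime.pow_right n (hp.out.coprime_iff_not_dvd.2 hidx).symm)
    (Or.inl hsol) ξ hξ
  refine ⟨fun q => (θ : S.Qd → ℂ) (S.eQ.symm q), (Char.isIrrCharacter_comp_equiv S.eQ.symm).2 θ.2,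
    fun t q => ?_, ?_⟩
  · obtain ⟨r, rfl⟩ := S.eQ.surjective q
    show (θ : S.Qd → ℂ) (S.eQ.symm (restrictOp S.a S.Q S.stable t (S.eQ r))) =
      (θ : S.Qd → ℂ) (S.eQ.symm (S.eQ r))
    rw [show restrictOp S.a S.Q S.stable t (S.eQ r) =
      S.eQ (restrictOp S.b S.Qd S.stable_qd t r) from Subtype.ext (S.compat t r).symm,
      MulEquiv.symm_apply_apply, MulEquiv.symm_apply_apply]
    exact hinv t r
  · show Cfsg.classInner (fun q : S.Qd => (ξ : D → ℂ) q)
      (fun q : S.Qd => (θ : S.Qd → ℂ) (S.eQ.symm (S.eQ q))) ≠ 0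
    simp only [MulEquiv.symm_apply_apply]
    rw [Char.Glauberman.mult_spec]
    exact Nat.cast_ne_zero.2 hm

/-- Two fixed constituents are conjugate under `D`. -/
theorem exists_conj_range (χ : Cfsg.IrrCharacter K) {θ θ' : S.Q → ℂ}
    (hθ : Cfsg.IsIrrCharacter S.Q θ) (hθA : InvFun (restrictOp S.a S.Q S.stable) θ)
    (hθ' : Cfsg.IsIrrCharacter S.Q θ') (hθ'A : InvFun (restrictOp S.a S.Q S.stable) θ')
    (h : S.OverK θ (χ : K → ℂ)) (h' : S.OverK θ' (χ : K → ℂ)) :
    ∃ c : D, (haveI := S.normal; Char.conjFun (S.ι c) θ = θ') := by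
  haveI := S.normal
  obtain ⟨g, hg⟩ := Char.mem_orbit.1 (Char.constituent_mem_orbit χ.2 hθ hθ' h h')
  obtain ⟨x, hx, c, hc⟩ := exists_mem_range S (S.inert θ') (S.le_inert hθ') g fun t x hx => Or.inr (by
    have h1 : Char.conjFun (g * x) θ = θ' := by
      rw [← Char.conjFun_conjFun, hg]; exact hx
    have h2 := S.conjFun_op_eq hθA hθ'A t _ h1
    show Char.conjFun (g⁻¹ * S.a t (g * x)) θ' = θ'
    rw [← hg, Char.conjFun_conjFun, mul_inv_cancel_left, hg]
    exact h2)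
  refine ⟨c, ?_⟩
  rw [hc, ← Char.conjFun_conjFun, hg]
  exact hx

/-- Congruence of the two inertia indices. -/
theorem index_cong (T : Subgroup K) (hQT : S.Q ≤ T) (hT : ∀ (t : A), ∀ g ∈ T, S.a t g ∈ T) :
    ((T.comap S.ι).index : ZMod p) = (T.index : ZMod p) := by
  classical
  letI : MulAction A (K ⧸ T) :=
    { smul := fun t => Quotient.map' (S.a t) fun x y h => by
        rw [QuotientGroup.leftRel_apply] at h ⊢
        rw [← map_inv, ← map_mul]
        exact hT t _ h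
      one_smul := fun q => QuotientGroup.induction_on q fun x =>
        congrArg QuotientGroup.mk (show S.a 1 x = x by simp)
      mul_smul := fun s t q => QuotientGroup.induction_on q fun x =>
        congrArg QuotientGroup.mk (show S.a (s * t) x = S.a s (S.a t x) by simp) }
  have hcong := S.hA.card_modEq_card_fixedPoints (K ⧸ T)
  have hfix : ∀ c : D, (QuotientGroup.mk (S.ι c) : K ⧸ T) ∈ MulAction.fixedPoints A (K ⧸ T) := by
    intro c t
    show (QuotientGroup.mk (S.a t (S.ι c)) : K ⧸ T) = QuotientGroup.mk (S.ι c)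
    refine QuotientGroup.eq.2 (hQT ?_)
    have h := S.normal.conj_mem _ (inv_mem ((S.mem_range _).1 ⟨c, rfl⟩ t)) (S.ι c)⁻¹
    simpa [mul_assoc] using h
  let f : D ⧸ T.comap S.ι → MulAction.fixedPoints A (K ⧸ T) :=
    Quotient.lift (fun c => ⟨QuotientGroup.mk (S.ι c), hfix c⟩) fun c d h => by
      refine Subtype.ext (QuotientGroup.eq.2 ?_)
      have h' : c⁻¹ * d ∈ T.comap S.ι := QuotientGroup.leftRel_apply.1 h
      simpa [Subgroup.mem_comap] using h'
  have hbij : Function.Bijective f := by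
    constructor
    · rintro ⟨c⟩ ⟨d⟩ h
      refine Quotient.sound (QuotientGroup.leftRel_apply.2 ?_)
      have h' : (QuotientGroup.mk (S.ι c) : K ⧸ T) = QuotientGroup.mk (S.ι d) := congrArg Subtype.val h
      show S.ι (c⁻¹ * d) ∈ T
      rw [map_mul, map_inv]
      exact QuotientGroup.eq.1 h'
    · rintro ⟨y, hy⟩
      obtain ⟨k, rfl⟩ := QuotientGroup.mk_surjective y
      obtain ⟨g, hg, c, hc⟩ := exists_mem_range S T hQT k fun t g hg => Or.inr (by
        have h1 : (QuotientGroup.mk (S.a t k) : K ⧸ T) = QuotientGroup.mk k := hy t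
        rw [QuotientGroup.eq] at h1
        rw [map_mul, ← mul_assoc]
        refine mul_mem ?_ (hT t g hg)
        simpa using inv_mem h1)
      refine ⟨Quotient.mk _ c, Subtype.ext (QuotientGroup.eq.2 ?_)⟩
      rw [hc]
      simpa [mul_assoc] using inv_mem hg
  rw [Subgroup.index_eq_card, Subgroup.index_eq_card, Nat.card_congr (Equiv.ofBijective f hbij)]
  exact ((ZMod.natCast_eq_natCast_iff _ _ _).2 hcong).symm

/-- The correspondence. -/
theorem main [Finite A] :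
    (∀ χ : Cfsg.IrrCharacter K, InvFun S.a (χ : K → ℂ) →
      ∃ ξ : Cfsg.IrrCharacter D, InvFun S.b (ξ : D → ℂ) ∧
        ((S.m χ ξ : ZMod p) = 1 ∨ (S.m χ ξ : ZMod p) = -1) ∧
        (∃ dχ dξ : ℕ, (χ : K → ℂ) 1 = dχ ∧ (ξ : D → ℂ) 1 = dξ ∧
          ((dξ : ZMod p) = dχ ∨ (dξ : ZMod p) = -(dχ : ZMod p))) ∧
        ∀ ξ' : Cfsg.IrrCharacter D, InvFun S.b (ξ' : D → ℂ) → ξ' ≠ ξ → p ∣ S.m χ ξ') ∧
    (∀ ξ : Cfsg.IrrCharacter D, InvFun S.b (ξ : D → ℂ) →
      ∃ χ : Cfsg.IrrCharacter K, InvFun S.a (χ : K → ℂ) ∧ ¬ p ∣ S.m χ ξ) ∧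
    (∀ χ χ' : Cfsg.IrrCharacter K, InvFun S.a (χ : K → ℂ) → InvFun S.a (χ' : K → ℂ) →
      ∀ ξ : Cfsg.IrrCharacter D, InvFun S.b (ξ : D → ℂ) →
        ¬ p ∣ S.m χ ξ → ¬ p ∣ S.m χ' ξ → χ = χ') := by
  classical
  haveI := S.normal
  haveI := S.qd_normal
  -- everything over one fixed `θ`
  have key : ∀ (θ : S.Q → ℂ), Cfsg.IsIrrCharacter S.Q θ →
      InvFun (restrictOp S.a S.Q S.stable) θ →
      (∀ χ : Cfsg.IrrCharacter K, InvFun S.a (χ : K → ℂ) → S.OverK θ (χ : K → ℂ) →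
        ∃ ξ : Cfsg.IrrCharacter D, InvFun S.b (ξ : D → ℂ) ∧ S.OverD θ (ξ : D → ℂ) ∧
          ((S.m χ ξ : ZMod p) = 1 ∨ (S.m χ ξ : ZMod p) = -1) ∧
          (∃ dχ dξ : ℕ, (χ : K → ℂ) 1 = dχ ∧ (ξ : D → ℂ) 1 = dξ ∧
            ((dξ : ZMod p) = dχ ∨ (dξ : ZMod p) = -(dχ : ZMod p))) ∧
          ∀ ξ' : Cfsg.IrrCharacter D, InvFun S.b (ξ' : D → ℂ) → S.OverD θ (ξ' : D → ℂ) →
            ξ' ≠ ξ → p ∣ S.m χ ξ') ∧
      (∀ ξ : Cfsg.IrrCharacter D, InvFun S.b (ξ : D → ℂ) → S.OverD θ (ξ : D → ℂ) →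
        ∃ χ : Cfsg.IrrCharacter K, InvFun S.a (χ : K → ℂ) ∧ S.OverK θ (χ : K → ℂ) ∧
          ¬ p ∣ S.m χ ξ) ∧
      (∀ χ χ' : Cfsg.IrrCharacter K, InvFun S.a (χ : K → ℂ) → S.OverK θ (χ : K → ℂ) →
        InvFun S.a (χ' : K → ℂ) → S.OverK θ (χ' : K → ℂ) →
        ∀ ξ : Cfsg.IrrCharacter D, InvFun S.b (ξ : D → ℂ) → S.OverD θ (ξ : D → ℂ) →
          ¬ p ∣ S.m χ ξ → ¬ p ∣ S.m χ' ξ → χ = χ') := by
    intro θ hθ hθA
    set T := S.inert θ with hTdef
    have hQT : S.Q ≤ T := S.le_inert hθ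
    have hTs : ∀ (t : A), ∀ g ∈ T, S.a t g ∈ T := S.inert_stable hθA
    set T' := T.comap S.ι with hT'def
    set S' := S.restrict T hQT hTs with hS'
    haveI := S'.normal
    letI : Fintype S'.Q := Fintype.ofFinite _
    letI : Fintype S'.Qd := Fintype.ofFinite _
    have hQT' : S.Qd ≤ T' := Subgroup.comap_mono hQT
    let e : S'.Q ≃* S.Q := Subgroup.subgroupOfEquivOfLe hQT
    let eD : S'.Qd ≃* S.Qd :=
      { toFun := fun x => ⟨((x : T') : D), x.2⟩
        invFun := fun x => ⟨⟨(x : D), hQT' x.2⟩, x.2⟩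
        left_inv := fun _ => rfl
        right_inv := fun _ => rfl
        map_mul' := fun _ _ => rfl }
    set θ' : S'.Q → ℂ := fun q => θ (e q) with hθ'def
    have hovK : ∀ ψ : T → ℂ, S'.OverK θ' ψ ↔
        Cfsg.classInner (fun n : S.Q => ψ ⟨n, hQT n.2⟩) θ ≠ 0 := fun ψ =>
      Iff.of_eq (congrArg (· ≠ 0) (classInner_equiv e (fun n : S.Q => ψ ⟨n, hQT n.2⟩) θ))
    have hovD : ∀ η : T' → ℂ, S'.OverD θ' η ↔
        Cfsg.classInner (fun n : S.Qd => η ⟨n, hQT' n.2⟩) (S.θd θ) ≠ 0 := fun η =>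
      Iff.of_eq (congrArg (· ≠ 0)
        (classInner_equiv eD (fun n : S.Qd => η ⟨n, hQT' n.2⟩) (S.θd θ)))
    have hin : Char.inertia θ = T := rfl
    have hinD : Char.inertia (S.θd θ) = T' := by
      ext c
      show Char.conjFun c (S.θd θ) = S.θd θ ↔ Char.conjFun (S.ι c) θ = θ
      have hc : ∀ q : S.Qd, Char.conjFun c (S.θd θ) q = Char.conjFun (S.ι c) θ (S.eQ q) := fun q => by
        rw [Char.conjFun_apply, Char.conjFun_apply]
        refine congrArg θ (Subtype.ext ?_)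
        show S.ι (c * q * c⁻¹) = S.ι c * S.ι q * (S.ι c)⁻¹
        rw [map_mul, map_mul, map_inv]
      constructor
      · intro h
        funext q
        obtain ⟨r, rfl⟩ := S.eQ.surjective q
        rw [← hc, h]
        rfl
      · intro h
        funext q
        rw [hc, h]
        rfl
    obtain ⟨c1, c2, c3⟩ := core S' (θ := θ') ((Char.isIrrCharacter_comp_equiv e).2 hθ)
      (fun g => funext fun q => congrFun (show Char.conjFun (g : K) θ = θ from g.2) (e q))
      (fun t q => hθA t (e q))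
    -- correspondents
    have corrK : ∀ χ : Cfsg.IrrCharacter K, InvFun S.a (χ : K → ℂ) → S.OverK θ (χ : K → ℂ) →
        ∃ ψ : Cfsg.IrrCharacter T, Cfsg.indFun T (ψ : T → ℂ) = (χ : K → ℂ) ∧
          InvFun S'.a (ψ : T → ℂ) ∧ S'.OverK θ' (ψ : T → ℂ) ∧
          Cfsg.classInner (fun n : S.Q => (ψ : T → ℂ) ⟨n, hQT n.2⟩) θ =
            Cfsg.classInner (fun n : S.Q => (χ : K → ℂ) n) θ := by
      intro χ hχ hov
      obtain ⟨ψ, hψ, hind, hmul⟩ := ProjExt.exists_correspondent hθ hin hQT χ.2 hov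
      refine ⟨⟨ψ, hψ⟩, hind, fun t x => ?_, (hovK ψ).2 (by rw [hmul]; exact hov), hmul⟩
      have hψt : Cfsg.IsIrrCharacter T (fun y => ψ (restrictOp S.a T hTs t y)) :=
        (Char.isIrrCharacter_comp_equiv _).2 hψ
      have h2 : Cfsg.classInner (fun n : S.Q => ψ (restrictOp S.a T hTs t ⟨n, hQT n.2⟩)) θ ≠ 0 := by
        have h3 : Cfsg.classInner (fun n : S.Q => ψ (restrictOp S.a T hTs t ⟨n, hQT n.2⟩))
            (fun n => θ (restrictOp S.a S.Q S.stable t n)) =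
            Cfsg.classInner (fun n : S.Q => ψ ⟨n, hQT n.2⟩) θ :=
          classInner_equiv (restrictOp S.a S.Q S.stable t) (fun n : S.Q => ψ ⟨n, hQT n.2⟩) θ
        rw [show (fun n => θ (restrictOp S.a S.Q S.stable t n)) = θ from funext (hθA t)] at h3
        rw [h3, hmul]
        exact hov
      have := ProjExt.indFun_injective hθ hin hQT hψt hψ h2 (by rw [hmul]; exact hov) (funext fun g => by
        rw [indFun_op S.a T hTs ψ t g, hind]
        exact hχ t g)
      exact congrFun this x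
    have corrD : ∀ ξ : Cfsg.IrrCharacter D, InvFun S.b (ξ : D → ℂ) → S.OverD θ (ξ : D → ℂ) →
        ∃ η : Cfsg.IrrCharacter T', Cfsg.indFun T' (η : T' → ℂ) = (ξ : D → ℂ) ∧
          InvFun S'.b (η : T' → ℂ) ∧ S'.OverD θ' (η : T' → ℂ) := by
      intro ξ hξ hov
      have hθd := S.isIrr_θd hθ
      obtain ⟨η, hη, hind, hmul⟩ := ProjExt.exists_correspondent hθd hinD hQT' ξ.2 hov
      refine ⟨⟨η, hη⟩, hind, fun t x => ?_, (hovD η).2 (by rw [hmul]; exact hov)⟩
      have hηt : Cfsg.IsIrrCharacter T' (fun y => η (restrictOp S.b T' (S.comap_stable hTs) t y)) :=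
        (Char.isIrrCharacter_comp_equiv _).2 hη
      have h2 : Cfsg.classInner (fun n : S.Qd =>
          η (restrictOp S.b T' (S.comap_stable hTs) t ⟨n, hQT' n.2⟩)) (S.θd θ) ≠ 0 := by
        have h3 : Cfsg.classInner (fun n : S.Qd =>
            η (restrictOp S.b T' (S.comap_stable hTs) t ⟨n, hQT' n.2⟩))
            (fun n => S.θd θ (restrictOp S.b S.Qd S.stable_qd t n)) =
            Cfsg.classInner (fun n : S.Qd => η ⟨n, hQT' n.2⟩) (S.θd θ) :=
          classInner_equiv (restrictOp S.b S.Qd S.stable_qd t) (fun n : S.Qd => η ⟨n, hQT' n.2⟩)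
            (S.θd θ)
        rw [show (fun n => S.θd θ (restrictOp S.b S.Qd S.stable_qd t n)) = S.θd θ from
          funext fun n => by
            show θ (S.eQ _) = θ (S.eQ n)
            rw [← hθA t (S.eQ n)]
            exact congrArg θ (Subtype.ext (S.compat t n))] at h3
        rw [h3, hmul]
        exact hov
      have := ProjExt.indFun_injective hθd hinD hQT' hηt hη h2 (by rw [hmul]; exact hov)
        (funext fun g => by
          rw [indFun_op S.b T' (S.comap_stable hTs) η t g, hind]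
          exact hξ t g)
      exact congrFun this x
    have hm : ∀ (χ : Cfsg.IrrCharacter K) (ψ : Cfsg.IrrCharacter T) (ξ : Cfsg.IrrCharacter D)
        (η : Cfsg.IrrCharacter T'), Cfsg.indFun T (ψ : T → ℂ) = (χ : K → ℂ) →
        S'.OverK θ' (ψ : T → ℂ) → Cfsg.indFun T' (η : T' → ℂ) = (ξ : D → ℂ) →
        S'.OverD θ' (η : T' → ℂ) → S.m χ ξ = S'.m ψ η := by
      intro χ ψ ξ η hψ hψov hη hηov
      have h1 : Cfsg.classInner (fun t : T => (χ : K → ℂ) t) (ψ : T → ℂ) ≠ 0 := by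
        intro h0
        have h := Char.classInner_indFun_left T (ψ : T → ℂ) (Char.isClassFunction_of_isIrr χ.2)
        rw [hψ, Char.classInner_irr_self χ.2, ← Char.classInner_conj_symm, h0, map_zero] at h
        exact one_ne_zero h
      have hR := Char.IsChar.sub_constituent (Char.isCharacter_res T (Char.IsIrr.isCharacter χ.2))
        ψ.2 h1
      have hR0 : Cfsg.classInner (fun q : S.Q => ((fun t : T => (χ : K → ℂ) t) - (ψ : T → ℂ))
          ⟨q, hQT q.2⟩) θ = 0 := by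
        have hmul := (ProjExt.clifford_core hθ hin hQT χ.2 ψ.2 h1 ((hovK _).1 hψov)).2
        have : (fun q : S.Q => ((fun t : T => (χ : K → ℂ) t) - (ψ : T → ℂ)) ⟨q, hQT q.2⟩) =
            (fun q : S.Q => (χ : K → ℂ) q) - fun q : S.Q => (ψ : T → ℂ) ⟨q, hQT q.2⟩ := rfl
        rw [this, Char.classInner_sub_left, ← hmul, sub_self]
      have h2 := classInner_eq_zero_of_not_over S'.Qd (Char.isCharacter_comp S'.ι hR) η.2
        (Char.IsIrr.isCharacter (S'.isIrr_θd ((Char.isIrrCharacter_comp_equiv e).2 hθ)))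
        (not_not.1 fun h => (hovK _).1 ((S'.overD_comp_iff θ' _).1 h) hR0) hηov
      have h3 : Cfsg.classInner (fun c : D => (χ : K → ℂ) (S.ι c)) (ξ : D → ℂ) =
          Cfsg.classInner (fun x : T' => (ψ : T → ℂ) (S'.ι x)) (η : T' → ℂ) := by
        rw [← hη, Char.classInner_indFun_right T' (η : T' → ℂ)
          (χ := fun c : D => (χ : K → ℂ) (S.ι c)) (Char.isClassFunction_of_isCharacter
            (Char.isCharacter_comp S.ι (Char.IsIrr.isCharacter χ.2))), ← sub_eq_zero,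
          ← Char.classInner_sub_left]
        exact h2
      rw [S.m_spec, S'.m_spec] at h3
      exact_mod_cast h3
    have hidx := S.index_cong T hQT hTs
    refine ⟨fun χ hχ hov => ?_, fun ξ hξ hov => ?_, fun χ χ' hχ hov hχ' hov' ξ hξ hovξ hd hd' => ?_⟩
    · obtain ⟨ψ, hψ, hψA, hψov, -⟩ := corrK χ hχ hov
      obtain ⟨η, hηA, hηov, hpm, ⟨dψ, dη, hdψ, hdη, hdeg⟩, huniq⟩ := c1 ψ hψA hψov
      let ξ : Cfsg.IrrCharacter D := ⟨Cfsg.indFun T' (η : T' → ℂ),
        ProjExt.exists_induced (S.isIrr_θd hθ) hinD hQT' η.2 ((hovD _).1 hηov)⟩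
      have hξov : S.OverD θ (ξ : D → ℂ) := by
        intro h0
        have hm0 : Cfsg.classInner (fun n : S.Qd => (ξ : D → ℂ) n) (S.θd θ) =
            Cfsg.classInner (fun n : S.Qd => (η : T' → ℂ) ⟨n, hQT' n.2⟩) (S.θd θ) := by
          refine ((ProjExt.clifford_core (S.isIrr_θd hθ) hinD hQT' ξ.2 η.2 ?_ ((hovD _).1 hηov)).2).symm
          intro h
          have h' := Char.classInner_indFun_left T' (η : T' → ℂ) (Char.isClassFunction_of_isIrr ξ.2)
          rw [show Cfsg.indFun T' (η : T' → ℂ) = (ξ : D → ℂ) from rfl, Char.classInner_irr_self ξ.2,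
            ← Char.classInner_conj_symm, h, map_zero] at h'
          exact one_ne_zero h'
        exact (hovD _).1 hηov (hm0 ▸ h0)
      refine ⟨ξ, fun t g => ?_, hξov, ?_, ?_, fun ξ' hξ' hov' hne => ?_⟩
      · show Cfsg.indFun T' (η : T' → ℂ) (S.b t g) = Cfsg.indFun T' (η : T' → ℂ) g
        rw [← indFun_op S.b T' (S.comap_stable hTs)]
        exact congrFun (congrArg (Cfsg.indFun T') (funext fun x => hηA t x)) g
      · rw [hm χ ψ ξ η hψ hψov rfl hηov]; exact hpm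
      · refine ⟨T.index * dψ, T'.index * dη, ?_, ?_, ?_⟩
        · rw [← hψ, Char.indFun_apply_one, hdψ, Nat.cast_mul]
        · show Cfsg.indFun T' (η : T' → ℂ) 1 = _
          rw [Char.indFun_apply_one, hdη, Nat.cast_mul]
        · rw [Nat.cast_mul, Nat.cast_mul, hidx]
          rcases hdeg with h | h <;> rw [h]
          · exact Or.inl rfl
          · exact Or.inr (mul_neg _ _)
      · obtain ⟨η', hη', hη'A, hη'ov⟩ := corrD ξ' hξ' hov'
        rw [hm χ ψ ξ' η' hψ hψov hη' hη'ov]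
        refine huniq η' hη'A hη'ov fun h => hne (Subtype.ext ?_)
        rw [← hη', h]
    · obtain ⟨η, hη, hηA, hηov⟩ := corrD ξ hξ hov
      obtain ⟨ψ, hψA, hψov, hd⟩ := c2 η hηA hηov
      let χ : Cfsg.IrrCharacter K := ⟨Cfsg.indFun T (ψ : T → ℂ),
        ProjExt.exists_induced hθ hin hQT ψ.2 ((hovK _).1 hψov)⟩
      refine ⟨χ, fun t g => ?_, fun h0 => ?_, by rw [hm χ ψ ξ η rfl hψov hη hηov]; exact hd⟩
      · show Cfsg.indFun T (ψ : T → ℂ) (S.a t g) = Cfsg.indFun T (ψ : T → ℂ) g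
        rw [← indFun_op S.a T hTs]
        exact congrFun (congrArg (Cfsg.indFun T) (funext fun x => hψA t x)) g
      · refine (hovK _).1 hψov ?_
        rw [(ProjExt.clifford_core hθ hin hQT χ.2 ψ.2 ?_ ((hovK _).1 hψov)).2]
        · exact h0
        · intro h
          have h' := Char.classInner_indFun_left T (ψ : T → ℂ) (Char.isClassFunction_of_isIrr χ.2)
          rw [show Cfsg.indFun T (ψ : T → ℂ) = (χ : K → ℂ) from rfl, Char.classInner_irr_self χ.2,
            ← Char.classInner_conj_symm, h, map_zero] at h'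
          exact one_ne_zero h'
    · obtain ⟨ψ, hψ, hψA, hψov, -⟩ := corrK χ hχ hov
      obtain ⟨ψ', hψ', hψ'A, hψ'ov, -⟩ := corrK χ' hχ' hov'
      obtain ⟨η, hη, hηA, hηov⟩ := corrD ξ hξ hovξ
      rw [hm χ ψ ξ η hψ hψov hη hηov] at hd
      rw [hm χ' ψ' ξ η hψ' hψ'ov hη hηov] at hd'
      refine Subtype.ext ?_
      rw [← hψ, ← hψ', c3 ψ ψ' hψA hψov hψ'A hψ'ov η hηA hηov hd hd']
  -- assemble
  have overK_of : ∀ (χ : Cfsg.IrrCharacter K) (ξ : Cfsg.IrrCharacter D) (θ : S.Q → ℂ),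
      Cfsg.IsIrrCharacter S.Q θ → S.OverD θ (ξ : D → ℂ) → ¬ p ∣ S.m χ ξ →
      S.OverK θ (χ : K → ℂ) := fun χ ξ θ hθ hov hd => by
    by_contra h
    exact hd (by rw [S.m_eq_zero_of_not_over hθ χ ξ h hov]; exact dvd_zero p)
  refine ⟨fun χ hχ => ?_, fun ξ hξ => ?_, fun χ χ' hχ hχ' ξ hξ hd hd' => ?_⟩
  · obtain ⟨θ, hθ, hθA, hov⟩ := S.exists_const_K χ hχ
    obtain ⟨ξ, hξ, -, hpm, hdeg, huniq⟩ := (key θ hθ hθA).1 χ hχ hov
    refine ⟨ξ, hξ, hpm, hdeg, fun ξ' hξ' hne => ?_⟩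
    by_contra hd
    obtain ⟨θ', hθ', hθ'A, hov'⟩ := S.exists_const_D ξ' hξ'
    have hovK' := overK_of χ ξ' θ' hθ' hov' hd
    obtain ⟨c, hc⟩ := S.exists_conj_range χ hθ' hθ'A hθ hθA hovK' hov
    refine hd (huniq ξ' hξ' ?_ hne)
    show Cfsg.classInner (fun q : S.Qd => (ξ' : D → ℂ) q) (S.θd θ) ≠ 0
    have hθd : S.θd θ = Char.conjFun c (S.θd θ') := by
      funext q
      rw [Char.conjFun_apply]
      show θ (S.eQ q) = θ' (S.eQ _)
      rw [← hc, Char.conjFun_apply]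
      refine congrArg θ' (Subtype.ext ?_)
      show S.ι c * S.ι q * (S.ι c)⁻¹ = S.ι (c * q * c⁻¹)
      rw [map_mul, map_mul, map_inv]
    rw [hθd, ← Char.conjFun_res c (Char.isClassFunction_of_isIrr ξ'.2), Char.classInner_conjFun]
    exact hov'
  · obtain ⟨θ, hθ, hθA, hov⟩ := S.exists_const_D ξ hξ
    obtain ⟨χ, hχ, -, hd⟩ := (key θ hθ hθA).2.1 ξ hξ hov
    exact ⟨χ, hχ, hd⟩
  · obtain ⟨θ, hθ, hθA, hov⟩ := S.exists_const_D ξ hξ
    exact (key θ hθ hθA).2.2 χ χ' hχ (overK_of χ ξ θ hθ hov hd) hχ' (overK_of χ' ξ θ hθ hov hd')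
      ξ hξ hov hd hd'

end Setup

end Cfsg.Agent.Fg24.NormalSylowCorr
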